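import Mathlib
import Cfsg.Agent.Lib.Chev.Torus
import Cfsg.Agent.Lib.Chev.Cert

/-!
# Smith normal forms of the seven Cartan matrices
-/

set_option autoImplicit false

namespace CfsgLib.Chev

open Cfsg.Lie Cfsg.Lie.ChevalleyDatum

instance decSmithCert (D : ChevalleyDatum) (P P' Q Q' : List (List ℤ)) (d : List ℕ) :
    Decidable (SmithCert D P P' Q Q' d) := by
  unfold SmithCert; infer_instance

theorem smithG2 : SmithCert chevG2 [[0, -1], [1, 2]]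
    [[2, 1], [-1, 0]]
    [[1, 2], [0, 1]]
    [[1, -2], [0, 1]]
    [1, 1] := by
  decide +kernel

theorem smithB2 : SmithCert chevB2 [[0, -1], [1, 2]]
    [[2, 1], [-1, 0]]
    [[1, 2], [0, 1]]
    [[1, -2], [0, 1]]
    [1, 2] := by
  decide +kernel

theorem smithD4 : SmithCert chevD4 [[-1, 0, 0, 0], [-2, -1, 0, 0], [-3, -2, -1, 0], [2, 2, 1, 1]]
    [[-1, 0, 0, 0], [2, -1, 0, 0], [-1, 2, -1, 0], [-1, 0, 1, 1]]
    [[0, 0, 0, 1], [1, 0, 0, 2], [0, 1, -1, 1], [0, 0, 1, 2]]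
    [[-2, 1, 0, 0], [-3, 0, 1, 1], [-2, 0, 0, 1], [1, 0, 0, 0]]
    [1, 1, 2, 2] := by
  decide +kernel

theorem smithF4 : SmithCert chevF4 [[-1, 0, 0, 0], [1, 0, -1, 0], [-2, -1, 0, 0], [-2, -2, -2, -1]]
    [[-1, 0, 0, 0], [2, 0, -1, 0], [-1, -1, 0, 0], [0, 2, 2, -1]]
    [[0, 0, 1, -2], [1, 0, 2, -4], [0, 0, 2, -3], [0, 1, 2, -2]]
    [[-2, 1, 0, 0], [2, 0, -2, 1], [-3, 0, 2, 0], [-2, 0, 1, 0]]
    [1, 1, 1, 1] := by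
  decide +kernel

theorem smithE6 : SmithCert chevE6 [[-1, 0, 0, 0, 0, 0], [0, -1, 0, 0, 0, 0], [1, -2, 0, -1, 0, 0], [2, -3, 0, -2, -1, 0], [-2, 1, -1, 0, 0, 0], [-5, 0, -4, -3, -2, -1]]
    [[-1, 0, 0, 0, 0, 0], [0, -1, 0, 0, 0, 0], [2, -1, 0, 0, -1, 0], [-1, 2, -1, 0, 0, 0], [0, -1, 2, -1, 0, 0], [0, 0, -1, 2, 4, -1]]
    [[0, 0, 0, 0, 1, -2], [0, 0, 0, 0, 2, -3], [1, 0, 0, 0, 2, -4], [0, 1, 0, 0, 4, -6], [0, 0, 1, 0, 4, -5], [0, 0, 0, 1, 4, -4]]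
    [[-2, 0, 1, 0, 0, 0], [0, -2, 0, 1, 0, 0], [2, -3, 0, 0, 1, 0], [4, -4, 0, 0, 0, 1], [-3, 2, 0, 0, 0, 0], [-2, 1, 0, 0, 0, 0]]
    [1, 1, 1, 1, 1, 3] := by
  decide +kernel

theorem smithE7 : SmithCert chevE7 [[-1, 0, 0, 0, 0, 0, 0], [0, -1, 0, 0, 0, 0, 0], [1, -2, 0, -1, 0, 0, 0], [2, -3, 0, -2, -1, 0, 0], [3, -4, 0, -3, -2, -1, 0], [-2, 1, -1, 0, 0, 0, 0], [-4, -1, -4, -4, -3, -2, -1]]
    [[-1, 0, 0, 0, 0, 0, 0], [0, -1, 0, 0, 0, 0, 0], [2, -1, 0, 0, 0, -1, 0], [-1, 2, -1, 0, 0, 0, 0], [0, -1, 2, -1, 0, 0, 0], [0, 0, -1, 2, -1, 0, 0], [0, 0, 0, -1, 2, 4, -1]]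
    [[0, 0, 0, 0, 0, 1, -2], [0, 0, 0, 0, 0, 2, -3], [1, 0, 0, 0, 0, 2, -4], [0, 1, 0, 0, 0, 4, -6], [0, 0, 1, 0, 0, 4, -5], [0, 0, 0, 1, 0, 4, -4], [0, 0, 0, 0, 1, 4, -3]]
    [[-2, 0, 1, 0, 0, 0, 0], [0, -2, 0, 1, 0, 0, 0], [2, -3, 0, 0, 1, 0, 0], [4, -4, 0, 0, 0, 1, 0], [6, -5, 0, 0, 0, 0, 1], [-3, 2, 0, 0, 0, 0, 0], [-2, 1, 0, 0, 0, 0, 0]]
    [1, 1, 1, 1, 1, 1, 2] := by
  decide +kernel

theorem smithE8 : SmithCert chevE8 [[-1, 0, 0, 0, 0, 0, 0, 0], [0, -1, 0, 0, 0, 0, 0, 0], [1, -2, 0, -1, 0, 0, 0, 0], [2, -3, 0, -2, -1, 0, 0, 0], [3, -4, 0, -3, -2, -1, 0, 0], [4, -5, 0, -4, -3, -2, -1, 0], [-2, 1, -1, 0, 0, 0, 0, 0], [-3, -2, -4, -5, -4, -3, -2, -1]]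
    [[-1, 0, 0, 0, 0, 0, 0, 0], [0, -1, 0, 0, 0, 0, 0, 0], [2, -1, 0, 0, 0, 0, -1, 0], [-1, 2, -1, 0, 0, 0, 0, 0], [0, -1, 2, -1, 0, 0, 0, 0], [0, 0, -1, 2, -1, 0, 0, 0], [0, 0, 0, -1, 2, -1, 0, 0], [0, 0, 0, 0, -1, 2, 4, -1]]
    [[0, 0, 0, 0, 0, 0, 1, -2], [0, 0, 0, 0, 0, 0, 2, -3], [1, 0, 0, 0, 0, 0, 2, -4], [0, 1, 0, 0, 0, 0, 4, -6], [0, 0, 1, 0, 0, 0, 4, -5], [0, 0, 0, 1, 0, 0, 4, -4], [0, 0, 0, 0, 1, 0, 4, -3], [0, 0, 0, 0, 0, 1, 4, -2]]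
    [[-2, 0, 1, 0, 0, 0, 0, 0], [0, -2, 0, 1, 0, 0, 0, 0], [2, -3, 0, 0, 1, 0, 0, 0], [4, -4, 0, 0, 0, 1, 0, 0], [6, -5, 0, 0, 0, 0, 1, 0], [8, -6, 0, 0, 0, 0, 0, 1], [-3, 2, 0, 0, 0, 0, 0, 0], [-2, 1, 0, 0, 0, 0, 0, 0]]
    [1, 1, 1, 1, 1, 1, 1, 1] := by
  decide +kernel

variable (F : Type*) [Field F] [Fintype F]

theorem card_diagonalSubgroup_G2 : Nat.card (chevG2.diagonalSubgroup F) = (Fintype.card F - 1) ^ 2 := by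
  have := card_diagonalSubgroup (F := F) smithG2
  change (∏ i : Fin 2, _) * _ = _ ^ 2 at this
  simpa [Fin.prod_univ_succ] using this

theorem card_diagonalSubgroup_F4 : Nat.card (chevF4.diagonalSubgroup F) = (Fintype.card F - 1) ^ 4 := by
  have := card_diagonalSubgroup (F := F) smithF4
  change (∏ i : Fin 4, _) * _ = _ ^ 4 at this
  simpa [Fin.prod_univ_succ] using this

theorem card_diagonalSubgroup_E8 : Nat.card (chevE8.diagonalSubgroup F) = (Fintype.card F - 1) ^ 8 := by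
  have := card_diagonalSubgroup (F := F) smithE8
  change (∏ i : Fin 8, _) * _ = _ ^ 8 at this
  simpa [Fin.prod_univ_succ] using this

theorem card_diagonalSubgroup_E6 : Nat.gcd 3 (Fintype.card F - 1) *
    Nat.card (chevE6.diagonalSubgroup F) = (Fintype.card F - 1) ^ 6 := by
  have := card_diagonalSubgroup (F := F) smithE6
  change (∏ i : Fin 6, _) * _ = _ ^ 6 at this
  simpa [Fin.prod_univ_succ] using this

theorem card_diagonalSubgroup_E7 : Nat.gcd 2 (Fintype.card F - 1) *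
    Nat.card (chevE7.diagonalSubgroup F) = (Fintype.card F - 1) ^ 7 := by
  have := card_diagonalSubgroup (F := F) smithE7
  change (∏ i : Fin 7, _) * _ = _ ^ 7 at this
  simpa [Fin.prod_univ_succ] using this

theorem card_diagonalSubgroup_B2 : Nat.gcd 2 (Fintype.card F - 1) *
    Nat.card (chevB2.diagonalSubgroup F) = (Fintype.card F - 1) ^ 2 := by
  have := card_diagonalSubgroup (F := F) smithB2
  change (∏ i : Fin 2, _) * _ = _ ^ 2 at this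
  simpa [Fin.prod_univ_succ] using this

theorem card_diagonalSubgroup_D4 : Nat.gcd 2 (Fintype.card F - 1) ^ 2 *
    Nat.card (chevD4.diagonalSubgroup F) = (Fintype.card F - 1) ^ 4 := by
  have := card_diagonalSubgroup (F := F) smithD4
  change (∏ i : Fin 4, _) * _ = _ ^ 4 at this
  simpa [Fin.prod_univ_succ, sq] using this

end CfsgLib.Chev
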